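import Groth.Agent.H9Algz.Approx
import Mathlib.RingTheory.PowerSeries.Inverse
import Mathlib.RingTheory.QuasiFinite.Basic
import Mathlib.RingTheory.Finiteness.Ideal

/-!
Approximating a point of a finitely generated algebra with values in `k⟦X⟧` on a smooth affine curve.
-/

set_option autoImplicit false
set_option backward.isDefEq.respectTransparency false

universe u

open IsLocalRing Groth.Agent.H9Algz

namespace H9Smoothing

variable (k : Type u) [Field k]

theorem isAdicComplete_powerSeries :
    IsAdicComplete (maximalIdeal (PowerSeries k)) (PowerSeries k) := by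
  have hmem : ∀ (s : ℕ) (f : PowerSeries k),
      f ∈ maximalIdeal (PowerSeries k) ^ s ↔ ∀ i < s, PowerSeries.coeff i f = 0 := fun s f => by
    rw [PowerSeries.maximalIdeal_eq_span_X, Ideal.span_singleton_pow, Ideal.mem_span_singleton,
      PowerSeries.X_pow_dvd_iff]
  refine { haus' := fun f hf => ?_, prec' := fun f hf => ?_ }
  · ext i
    have h := hf (i + 1)
    rw [SModEq.sub_mem, sub_zero, smul_eq_mul, Ideal.mul_top] at h
    simpa using (hmem _ _).1 h i (Nat.lt_succ_self i)
  · refine ⟨PowerSeries.mk fun i => PowerSeries.coeff i (f (i + 1)), fun n => ?_⟩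
    rw [SModEq.sub_mem, smul_eq_mul, Ideal.mul_top, hmem]
    intro i hi
    have h := hf (show i + 1 ≤ n by omega)
    rw [SModEq.sub_mem, smul_eq_mul, Ideal.mul_top, hmem] at h
    have h' := h i (Nat.lt_succ_self i)
    rw [map_sub, sub_eq_zero] at h'
    simp [h']

/-- The completion of the affine line at the origin is the power series ring. -/
theorem exists_cplEquiv :
    ∃ e : Cpl k 1 ≃+* PowerSeries k,
      (∀ p : Pol k 1, e (algebraMap (Pol k 1) (Cpl k 1) p) =
        MvPolynomial.aeval (fun _ => (PowerSeries.X : PowerSeries k)) p) ∧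
      ∀ s : ℕ, ∀ x ∈ MT k 1 ^ s, e x ∈ maximalIdeal (PowerSeries k) ^ s := by
  haveI := isAdicComplete_powerSeries k
  obtain ⟨π, hπs, hπm, hπ⟩ := exists_cplHom (R := PowerSeries k)
    (fun _ : Fin 1 => (PowerSeries.X : PowerSeries k))
    (by rw [Set.range_const, PowerSeries.maximalIdeal_eq_span_X])
    (fun y => by
      obtain ⟨f, rfl⟩ := residue_surjective y
      refine ⟨PowerSeries.constantCoeff f, ?_⟩
      refine Ideal.Quotient.eq.2 ?_
      rw [PowerSeries.maximalIdeal_eq_span_X, Ideal.mem_span_singleton, PowerSeries.X_dvd_iff]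
      simp [PowerSeries.algebraMap_apply])
  have hpow : ∀ s : ℕ, ∀ x ∈ MT k 1 ^ s, π x ∈ maximalIdeal (PowerSeries k) ^ s := by
    intro s x hx
    rw [← hπm, ← Ideal.map_pow]
    exact Ideal.mem_map_of_mem _ hx
  have hinj : Function.Injective π := by
    rw [injective_iff_map_eq_zero]
    intro x hx
    apply AdicCompletion.ext_evalₐ
    intro s
    rw [map_zero, ← mem_MT_pow_iff]
    obtain ⟨p, hp⟩ := exists_pol_sub_mem x s
    have h1 := hpow s _ hp
    rw [map_sub, hx, zero_sub, neg_mem_iff, hπ, PowerSeries.maximalIdeal_eq_span_X,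
      Ideal.span_singleton_pow, Ideal.mem_span_singleton] at h1
    let τ : Polynomial k →ₐ[k] Pol k 1 := Polynomial.aeval (MvPolynomial.X 0)
    obtain ⟨P, rfl⟩ : ∃ P, τ P = p := by
      refine ⟨MvPolynomial.aeval (fun _ => (Polynomial.X : Polynomial k)) p, ?_⟩
      have : τ.comp (MvPolynomial.aeval fun _ => (Polynomial.X : Polynomial k)) = AlgHom.id k _ := by
        ext i
        simp [τ, Subsingleton.elim i 0]
      exact DFunLike.congr_fun this p
    have h2 : MvPolynomial.aeval (fun _ => (PowerSeries.X : PowerSeries k)) (τ P) = (P : PowerSeries k) := by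
      have : (MvPolynomial.aeval (fun _ : Fin 1 => (PowerSeries.X : PowerSeries k))).comp τ =
          Polynomial.coeToPowerSeries.algHom k := by
        ext
        simp [τ]
      have h := DFunLike.congr_fun this P
      simpa using h
    rw [h2, PowerSeries.X_pow_dvd_iff] at h1
    obtain ⟨Q, rfl⟩ := Polynomial.X_pow_dvd_iff.2 fun d hd => by simpa using h1 d hd
    have h3 : τ (Polynomial.X ^ s * Q) ∈ m0 k 1 ^ s := by
      rw [map_mul, map_pow]
      refine Ideal.mul_mem_right _ _ (Ideal.pow_mem_pow ?_ _)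
      simpa [τ] using X_mem_m0 (k := k) (n := 1) 0
    simpa using add_mem hp ((algebraMap_mem_MT_pow_iff _ s).2 h3)
  exact ⟨RingEquiv.ofBijective π ⟨hinj, hπs⟩, hπ, hpow⟩

variable {k}

theorem constantCoeff_aeval_X (p : Pol k 1) :
    PowerSeries.constantCoeff (MvPolynomial.aeval (fun _ => (PowerSeries.X : PowerSeries k)) p) =
      eval₀ k 1 p := by
  let cc : PowerSeries k →ₐ[k] k :=
    ⟨PowerSeries.constantCoeff, fun c => by simp [PowerSeries.algebraMap_apply]⟩
  have : cc.comp (MvPolynomial.aeval fun _ => (PowerSeries.X : PowerSeries k)) = eval₀ k 1 := by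
    apply MvPolynomial.algHom_ext
    intro i
    simp [eval₀, cc]
  exact DFunLike.congr_fun this p

theorem isUnit_of_notMem_pt {E : Type u} [CommRing E] [Algebra (Pol k 1) E]
    (e : Cpl k 1 ≃+* PowerSeries k)
    (he : ∀ p : Pol k 1, e (algebraMap (Pol k 1) (Cpl k 1) p) =
      MvPolynomial.aeval (fun _ => (PowerSeries.X : PowerSeries k)) p)
    (hepow : ∀ s : ℕ, ∀ x ∈ MT k 1 ^ s, e x ∈ maximalIdeal (PowerSeries k) ^ s)
    (ψ : E →ₐ[Pol k 1] Cpl k 1) {y : E} (hy : y ∉ pt ψ) : IsUnit (e (ψ y)) := by
  refine notMem_maximalIdeal.1 fun hm => hy ?_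
  obtain ⟨p, hp⟩ := exists_pol_sub_mem_pt ψ y
  have hp0 : ψ (y - algebraMap (Pol k 1) E p) ∈ MT k 1 := hp
  rw [map_sub, AlgHom.commutes] at hp0
  have h2 : e (ψ y) - e (algebraMap (Pol k 1) (Cpl k 1) p) ∈ maximalIdeal (PowerSeries k) := by
    have h3 := hepow 1 _ (by rw [pow_one]; exact hp0)
    rw [pow_one, map_sub] at h3
    exact h3
  have h1 : e (algebraMap (Pol k 1) (Cpl k 1) p) ∈ maximalIdeal (PowerSeries k) := by
    have := sub_mem hm h2
    rwa [sub_sub_cancel] at this
  rw [he, PowerSeries.maximalIdeal_eq_span_X, Ideal.mem_span_singleton, PowerSeries.X_dvd_iff,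
    constantCoeff_aeval_X] at h1
  have h4 : algebraMap (Pol k 1) (Cpl k 1) p ∈ MT k 1 := map_m0_le_MT (Ideal.mem_map_of_mem _ h1)
  show ψ y ∈ MT k 1
  have h5 := add_mem hp0 h4
  rwa [sub_add_cancel] at h5

variable (k)

/-- A finitely generated subalgebra of `k⟦X⟧` maps to a smooth affine curve through a rational point,
keeping the value at the origin and the nonvanishing of a given element. -/
theorem exists_curve (A : Subalgebra k (PowerSeries k)) (hA : A.FG) (a : A) (ha : a ≠ 0) :
    ∃ (R : Type u) (_ : CommRing R) (_ : Algebra k R) (ρ : A →ₐ[k] R) (ε : R →ₐ[k] k),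
      IsDomain R ∧ Algebra.Smooth k R ∧ ringKrullDim R = 1 ∧ ρ a ≠ 0 ∧
      ∀ x : A, ε (ρ x) = PowerSeries.constantCoeff (x : PowerSeries k) := by
  classical
  obtain ⟨e, he, hepow⟩ := exists_cplEquiv k
  haveI : Algebra.FiniteType k A := (Subalgebra.fg_iff_finiteType A).1 hA
  obtain ⟨n, φ, hφ⟩ := Algebra.FiniteType.iff_quotient_mvPolynomial''.1 (inferInstance : Algebra.FiniteType k A)
  obtain ⟨q, h, hh⟩ := Submodule.fg_iff_exists_fin_generating_family.1
    (IsNoetherian.noetherian (RingHom.ker φ.toRingHom))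
  obtain ⟨N, hN⟩ : ∃ N, PowerSeries.coeff N (a : PowerSeries k) ≠ 0 := by
    by_contra hcon
    exact ha (Subtype.ext (PowerSeries.ext fun i => by
      by_contra hi; exact hcon ⟨i, by simpa using hi⟩))
  let x : Fin n → Cpl k 1 := fun i => e.symm (φ (MvPolynomial.X i) : PowerSeries k)
  let eqs : Fin q → MvPolynomial (Fin n) (Pol k 1) :=
    fun j => MvPolynomial.map (algebraMap k (Pol k 1)) (h j)
  have hek : ∀ c : k, e (algebraMap (Pol k 1) (Cpl k 1) (algebraMap k (Pol k 1) c)) =
      algebraMap k (PowerSeries k) c := fun c => by rw [he, AlgHom.commutes]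
  have heval : ∀ P : MvPolynomial (Fin n) k,
      e (MvPolynomial.aeval x (MvPolynomial.map (algebraMap k (Pol k 1)) P)) = (φ P : PowerSeries k) := by
    intro P
    induction P using MvPolynomial.induction_on with
    | C c =>
      rw [MvPolynomial.map_C, MvPolynomial.aeval_C, hek, ← MvPolynomial.algebraMap_eq, AlgHom.commutes]
      rfl
    | add P Q hP hQ => simp only [map_add, hP, hQ]; rfl
    | mul_X P i hP =>
      simp only [map_mul, hP, MvPolynomial.map_X, MvPolynomial.aeval_X, x, RingEquiv.apply_symm_apply]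
      rfl
  have hx0 : ∀ j, MvPolynomial.aeval x (eqs j) = 0 := fun j => by
    apply e.injective
    rw [map_zero]
    refine (heval (h j)).trans ?_
    have : φ (h j) = 0 := RingHom.mem_ker.1 (hh ▸ Ideal.subset_span ⟨j, rfl⟩)
    rw [this]; rfl
  obtain ⟨R', _, _, hR', ψ, b, hb, hab⟩ := exists_etale_solution_fintype (indSmooth_cpl k 1) (happ_loc k 1)
    eqs x hx0 (N + 1)
  haveI := hR'
  letI algR : Algebra k R' := ((algebraMap (Pol k 1) R').comp (algebraMap k (Pol k 1))).toAlgebra
  haveI : IsScalarTower k (Pol k 1) R' := IsScalarTower.of_algebraMap_eq fun _ => rfl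
  haveI : Algebra.FiniteType k R' :=
    Algebra.FiniteType.trans (R := k) (S := Pol k 1) (A := R') inferInstance inferInstance
  haveI : IsNoetherianRing R' := Algebra.FiniteType.isNoetherianRing k R'
  -- the point
  let ψK : R' →+* PowerSeries k := e.toRingHom.comp ψ.toRingHom
  have hψk : ∀ c : k, ψK (algebraMap k R' c) = algebraMap k (PowerSeries k) c := fun c => by
    change e (ψ (algebraMap (Pol k 1) R' (algebraMap k (Pol k 1) c))) = _
    rw [AlgHom.commutes, hek]
  have hunit : ∀ y ∉ pt ψ, IsUnit (ψK y) := fun y hy => isUnit_of_notMem_pt e he hepow ψ hy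
  -- injectivity near the point
  have hker : ∀ y : R', ψ y = 0 → ∃ g ∉ pt ψ, g * y = 0 := by
    intro y hy
    have hmem : y ∈ ⨅ s, pt ψ ^ s • (⊤ : Submodule R' R') := by
      rw [Submodule.mem_iInf]
      intro s
      rw [smul_eq_mul, Ideal.mul_top, mem_pt_pow_iff, hy]
      exact zero_mem _
    obtain ⟨r, hr⟩ := (Ideal.mem_iInf_smul_pow_eq_bot_iff (pt ψ) y).1 hmem
    refine ⟨1 - (r : R'), fun h1 => ?_, ?_⟩
    · have htop : (1 : R') ∈ pt ψ := by simpa using add_mem h1 r.2
      have : (1 : Cpl k 1) ∈ MT k 1 := by simpa [pt] using htop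
      have h2 : (1 : Cpl k 1) ∈ MT k 1 ^ 1 := by rwa [pow_one]
      have h4 := hepow 1 1 h2
      rw [pow_one, map_one] at h4
      exact (maximalIdeal.isMaximal _).ne_top ((Ideal.eq_top_iff_one _).2 h4)
    · rw [smul_eq_mul] at hr
      rw [sub_mul, one_mul, hr, sub_self]
  obtain ⟨m, z, hz⟩ := Submodule.fg_iff_exists_fin_generating_family.1
    (IsNoetherian.noetherian (RingHom.ker ψ.toRingHom))
  choose g hg hgz using fun i => hker (z i) (RingHom.mem_ker.1 (hz ▸ Ideal.subset_span ⟨i, rfl⟩))
  let G : R' := ∏ i, g i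
  have hG : IsUnit (ψK G) := by
    rw [map_prod]
    exact IsUnit.prod_iff.2 fun i _ => hunit _ (hg i)
  let R := Localization.Away G
  let Ψ : R →+* PowerSeries k := IsLocalization.Away.lift G hG
  have hΨinj : Function.Injective Ψ := by
    rw [injective_iff_map_eq_zero]
    intro y hy
    obtain ⟨⟨y', s⟩, rfl⟩ := IsLocalization.mk'_surjective (Submonoid.powers G) y
    have h1 : Ψ (algebraMap R' R y') = 0 := by
      rw [← IsLocalization.mk'_spec R y' s, map_mul, hy, zero_mul]
    rw [IsLocalization.Away.lift_eq] at h1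
    have h2 : y' ∈ RingHom.ker ψ.toRingHom := e.injective (by rw [map_zero]; exact h1)
    have h3 : G * y' = 0 := by
      clear hy h1
      rw [← hz] at h2
      induction h2 using Submodule.span_induction with
      | mem w hw =>
        obtain ⟨i, rfl⟩ := hw
        obtain ⟨c, hc⟩ := Finset.dvd_prod_of_mem g (Finset.mem_univ i)
        rw [show G = g i * c from hc, mul_comm (g i), mul_assoc, hgz, mul_zero]
      | zero => simp
      | add u v _ _ hu hv => rw [mul_add, hu, hv, add_zero]
      | smul c u _ hu => rw [smul_eq_mul, mul_left_comm, hu, mul_zero]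
    rw [IsLocalization.mk'_eq_zero_iff]
    exact ⟨⟨G, Submonoid.mem_powers G⟩, h3⟩
  haveI : IsDomain R := hΨinj.isDomain Ψ
  -- smoothness and dimension
  haveI : Algebra.Etale R' R := Algebra.Etale.of_isLocalizationAway G
  haveI : Algebra.Etale (Pol k 1) R := Algebra.Etale.comp (Pol k 1) R' R
  haveI : Algebra.Smooth k (Pol k 1) := ⟨inferInstance, inferInstance⟩
  haveI : Algebra.Smooth k R := Algebra.Smooth.comp k (Pol k 1) R
  let Rk : R →ₐ[k] k :=
    { toRingHom := PowerSeries.constantCoeff.comp Ψ
      commutes' := fun c => by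
        change PowerSeries.constantCoeff (Ψ (algebraMap R' R (algebraMap k R' c))) = c
        rw [IsLocalization.Away.lift_eq, hψk]
        simp [PowerSeries.algebraMap_apply] }
  have hdim : ringKrullDim R = 1 := by
    apply le_antisymm
    · have : ringKrullDim (Pol k 1) = 1 := by
        simp [MvPolynomial.ringKrullDim_of_isNoetherianRing, ringKrullDim_eq_zero_of_field]
      rw [← this]
      refine Order.krullDim_le_of_strictMono (PrimeSpectrum.comap (algebraMap (Pol k 1) R)) fun P Q hPQ => ?_
      refine lt_of_le_of_ne (Ideal.comap_mono hPQ.le) fun heq => hPQ.ne ?_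
      exact PrimeSpectrum.ext (Algebra.QuasiFinite.eq_of_le_of_under_eq (R := Pol k 1) P.asIdeal Q.asIdeal
        hPQ.le (congrArg PrimeSpectrum.asIdeal heq))
    · have hne : algebraMap (Pol k 1) R (MvPolynomial.X 0) ≠ 0 := by
        intro h0
        have := congrArg Ψ h0
        rw [IsScalarTower.algebraMap_apply (Pol k 1) R' R, IsLocalization.Away.lift_eq, map_zero] at this
        change e (ψ _) = 0 at this
        rw [AlgHom.commutes, he, MvPolynomial.aeval_X] at this
        exact PowerSeries.X_ne_zero this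
      have hnb : ¬ IsField R := by
        intro hF
        letI := hF.toField
        have h1 : Rk (algebraMap (Pol k 1) R (MvPolynomial.X 0)) = 0 := by
          change PowerSeries.constantCoeff (Ψ _) = 0
          rw [IsScalarTower.algebraMap_apply (Pol k 1) R' R, IsLocalization.Away.lift_eq]
          change PowerSeries.constantCoeff (e (ψ _)) = 0
          rw [AlgHom.commutes, he, MvPolynomial.aeval_X]
          simp
        exact hne ((map_eq_zero_iff _ (RingHom.injective Rk.toRingHom)).1 h1)
      by_contra hlt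
      rw [not_le] at hlt
      haveI : Ring.KrullDimLE 0 R := by
        rw [Ring.krullDimLE_iff]
        exact ENat.WithBot.lt_add_one_iff.1 (by simpa using hlt)
      exact hnb (Ring.KrullDimLE.isField_of_isDomain (R := R))
  -- the map from `A`
  have hbker : ∀ P ∈ RingHom.ker φ.toRingHom, (MvPolynomial.aeval b : MvPolynomial (Fin n) k →ₐ[k] R') P = 0 := by
    intro P hP
    rw [← hh] at hP
    induction hP using Submodule.span_induction with
    | mem w hw =>
      obtain ⟨j, rfl⟩ := hw
      rw [← MvPolynomial.aeval_map_algebraMap (Pol k 1)]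
      exact hb j
    | zero => simp
    | add u v _ _ hu hv => rw [map_add, hu, hv, add_zero]
    | smul c u _ hu => rw [smul_eq_mul, map_mul, hu, mul_zero]
  let ρ₀ : A →ₐ[k] R' := AlgHom.liftOfSurjective φ hφ (MvPolynomial.aeval b) hbker
  have hρX : ∀ P : MvPolynomial (Fin n) k, ρ₀ (φ P) = MvPolynomial.aeval b P := fun P => by
    simp [ρ₀]
  have hclose : ∀ P : MvPolynomial (Fin n) k,
      (φ P : PowerSeries k) - ψK (MvPolynomial.aeval b P) ∈ maximalIdeal (PowerSeries k) ^ (N + 1) := by
    intro P
    induction P using MvPolynomial.induction_on with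
    | C c =>
      rw [MvPolynomial.aeval_C, hψk, ← MvPolynomial.algebraMap_eq, AlgHom.commutes]
      simp
    | add P Q hP hQ =>
      rw [map_add, map_add, map_add, AddMemClass.coe_add, add_sub_add_comm]
      exact add_mem hP hQ
    | mul_X P i hP =>
      rw [map_mul, map_mul, map_mul, MulMemClass.coe_mul, MvPolynomial.aeval_X]
      have hi : (φ (MvPolynomial.X i) : PowerSeries k) - ψK (b i) ∈ maximalIdeal (PowerSeries k) ^ (N + 1) := by
        have := hepow _ _ (hab i)
        rw [map_sub] at this
        simpa [x, ψK] using this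
      rw [show ∀ u v u' v' : PowerSeries k, u * v - u' * v' = (u - u') * v + u' * (v - v') from
        fun u v u' v' => by ring]
      exact add_mem (Ideal.mul_mem_right _ _ hP) (Ideal.mul_mem_left _ _ hi)
  let ρ : A →ₐ[k] R := (IsScalarTower.toAlgHom k R' R).comp ρ₀
  have hval : ∀ y : A, (y : PowerSeries k) - Ψ (ρ y) ∈ maximalIdeal (PowerSeries k) ^ (N + 1) := by
    intro y
    obtain ⟨P, rfl⟩ := hφ y
    change _ - Ψ (algebraMap R' R (ρ₀ (φ P))) ∈ _
    rw [IsLocalization.Away.lift_eq, hρX]
    exact hclose P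
  refine ⟨R, inferInstance, inferInstance, ρ, Rk, inferInstance, inferInstance, hdim, fun h0 => hN ?_,
    fun y => ?_⟩
  · have := hval a
    rw [h0, map_zero, sub_zero, PowerSeries.maximalIdeal_eq_span_X, Ideal.span_singleton_pow,
      Ideal.mem_span_singleton, PowerSeries.X_pow_dvd_iff] at this
    exact this N (Nat.lt_succ_self N)
  · have := hval y
    rw [PowerSeries.maximalIdeal_eq_span_X, Ideal.span_singleton_pow,
      Ideal.mem_span_singleton, PowerSeries.X_pow_dvd_iff] at this
    have h' := this 0 (Nat.succ_pos N)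
    rw [PowerSeries.coeff_zero_eq_constantCoeff_apply, map_sub, sub_eq_zero] at h'
    exact h'.symm

end H9Smoothing
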