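import Groth.Agent.ConsPropLib.ExistsHom
import Groth.Agent.ConsPropLib.Approx
import Groth.Agent.ConsPropLib.CoreProper
import Groth.Agent.LimSm.Flat
import Groth.Agent.LimSm.Core
import Mathlib.AlgebraicGeometry.Morphisms.LocalFlatDescent
import Mathlib.RingTheory.Localization.Away.Basic
import Mathlib.RingTheory.Localization.FractionRing

/-!
Descent of a proper flat family with smooth generic fibre to a finitely generated base.
-/

set_option autoImplicit false
set_option linter.style.haveILetI false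
set_option backward.isDefEq.respectTransparency false
set_option backward.isDefEq.respectTransparency.types false

universe u

open CategoryTheory CategoryTheory.Limits AlgebraicGeometry
open Groth.Agent.MorLib Groth.Agent.ConsPropLib Groth.Agent.ConsPropLib.AlgApprox

namespace H9Smoothing

variable {B C : CommRingCat.{u}} (φ : B ⟶ C)

/-- The diagram of spectra of the finitely generated subalgebras. -/
noncomputable def diag : (Finset C)ᵒᵖ ⥤ Scheme.{u} := (AlgApprox.rings φ).op ⋙ Scheme.Spec

/-- The limit cone. -/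
noncomputable def cone : Cone (diag φ) := Scheme.Spec.mapCone (AlgApprox.cocone φ).op

/-- The limit cone is limiting. -/
noncomputable def isLimit : IsLimit (cone φ) := isLimitOfPreserves Scheme.Spec (AlgApprox.isColimit φ).op

instance isAffine_diag (i : (Finset C)ᵒᵖ) : IsAffine ((diag φ).obj i) :=
  isAffine_Spec ((AlgApprox.rings φ).obj i.unop)

instance isAffineHom_diag {i j : (Finset C)ᵒᵖ} (f : i ⟶ j) : IsAffineHom ((diag φ).map f) :=
  isAffineHom_of_isAffine _

/-- A proper flat finitely presented family comes from a finitely generated subalgebra. -/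
theorem exists_model {P : Scheme.{u}} (p : P ⟶ Spec C) [IsProper p] [Flat p]
    [LocallyOfFinitePresentation p] :
    ∃ (s : Finset C) (P₀ : Scheme.{u}) (f₀ : P₀ ⟶ Spec ((AlgApprox.rings φ).obj s)) (g : P ⟶ P₀),
      Flat f₀ ∧ IsProper f₀ ∧ LocallyOfFinitePresentation f₀ ∧
        IsPullback g p f₀ (Spec.map ((AlgApprox.cocone φ).ι.app s)) := by
  let c := cone φ
  let p' : P ⟶ c.pt := p
  haveI : LocallyOfFinitePresentation p' := ‹LocallyOfFinitePresentation p›
  haveI : IsProper p' := ‹IsProper p›
  obtain ⟨i, P₁, f₁, g₁, hm⟩ := hasModel (isLimit φ) p'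
  haveI := hm.lfp
  haveI := hm.qc
  haveI := hm.qs
  haveI : MorphismProperty.RespectsIso (@Flat : MorphismProperty Scheme.{u}) :=
    MorphismProperty.IsStableUnderBaseChange.respectsIso
  obtain ⟨a, φa, ha⟩ := Desc.descend (diag φ) c (isLimit φ) i (P := @IsProper)
    (Q := @LocallyOfFinitePresentation) core_isProper f₁ hm.lfp
    (Desc.of_two @IsProper hm.sq (IsPullback.of_hasPullback _ _) inferInstance)
  obtain ⟨b, φb, hb⟩ := Desc.descend (diag φ) c (isLimit φ) i (P := @Flat)
    (Q := @LocallyOfFinitePresentation) Groth.Agent.LimSm.core_flat f₁ hm.lfp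
    (Desc.of_two @Flat hm.sq (IsPullback.of_hasPullback _ _) ‹Flat p›)
  obtain ⟨w, α, β, hαβ⟩ : ∃ (w : (Finset C)ᵒᵖ) (α : w ⟶ a) (β : w ⟶ b), α ≫ φa = β ≫ φb := by
    obtain ⟨w₀, α, β, -⟩ := IsCofilteredOrEmpty.cone_objs a b
    exact ⟨w₀, α, β, Subsingleton.elim _ _⟩
  let ψ : w ⟶ i := α ≫ φa
  let P₀ := pullback f₁ ((diag φ).map ψ)
  let f₀ : P₀ ⟶ (diag φ).obj w := pullback.snd f₁ ((diag φ).map ψ)
  haveI : IsProper f₀ := Desc.of_factor @IsProper ha (a := (diag φ).map α)
    (by rw [← Functor.map_comp]) (IsPullback.of_hasPullback _ _)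
  haveI : Flat f₀ := Desc.of_factor @Flat hb (a := (diag φ).map β)
    (by rw [← Functor.map_comp, ← hαβ]) (IsPullback.of_hasPullback _ _)
  let g : P ⟶ P₀ := pullback.lift g₁ (p' ≫ c.π.app w)
    (by rw [Category.assoc, c.w ψ]; exact hm.sq.w)
  have hg : IsPullback g p' f₀ (c.π.app w) := by
    refine IsPullback.of_right ?_ (pullback.lift_snd _ _ _) (IsPullback.of_hasPullback _ _)
    rw [pullback.lift_fst, c.w ψ]
    exact hm.sq
  exact ⟨w.unop, P₀, f₀, g, inferInstance, inferInstance, inferInstance, hg⟩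

/-- Smoothness over a field of the generic fibre holds over some finitely generated subalgebra. -/
theorem exists_smooth_stage {A L : CommRingCat.{u}} (ψ : A ⟶ L) {P₀ : Scheme.{u}} (f₀ : P₀ ⟶ Spec A)
    [QuasiCompact f₀] [QuasiSeparated f₀] [LocallyOfFinitePresentation f₀]
    (hsm : Smooth (pullback.snd f₀ (Spec.map ψ))) :
    ∃ t : Finset L, Smooth (pullback.snd f₀ (Spec.map (AlgApprox.str ψ t))) := by
  let c := cone ψ
  let i : (Finset L)ᵒᵖ := Opposite.op ∅
  let σ : (diag ψ).obj i ⟶ Spec A := Spec.map (AlgApprox.str ψ ∅)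
  have hstr : ∀ s : Finset L, AlgApprox.str ψ s ≫ (AlgApprox.cocone ψ).ι.app s = ψ := by
    intro s; rfl
  let f₁ : pullback f₀ σ ⟶ (diag ψ).obj i := pullback.snd f₀ σ
  haveI : LocallyOfFinitePresentation f₁ := inferInstance
  have hπ : c.π.app i ≫ σ = Spec.map ψ := by
    show Spec.map _ ≫ Spec.map _ = _
    rw [← Spec.map_comp]
    exact congrArg Spec.map (hstr ∅)
  have h1 : Smooth (pullback.snd f₁ (c.π.app i)) :=
    Desc.of_factor @Smooth hsm (a := 𝟙 _) (by rw [Category.id_comp]; exact hπ.symm)
      ((IsPullback.of_hasPullback f₁ (c.π.app i)).paste_horiz (IsPullback.of_hasPullback f₀ σ))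
  obtain ⟨j, φj, hj⟩ := Desc.descend (diag ψ) c (isLimit ψ) i (P := @Smooth)
    (Q := @LocallyOfFinitePresentation) Groth.Agent.LimSm.core_smooth f₁ inferInstance h1
  refine ⟨j.unop, ?_⟩
  have hφ : (diag ψ).map φj ≫ σ = Spec.map (AlgApprox.str ψ j.unop) := by
    show Spec.map _ ≫ Spec.map _ = _
    rw [← Spec.map_comp]
    rfl
  have hsq := (IsPullback.of_hasPullback f₁ ((diag ψ).map φj)).paste_horiz (IsPullback.of_hasPullback f₀ σ)
  rw [hφ] at hsq
  exact Desc.of_two @Smooth hsq (IsPullback.of_hasPullback f₀ _) hj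

/-- The family over a finitely generated algebra, smooth where a given element is invertible. -/
theorem exists_family {k K : Type u} [Field k] [CommRing K] [IsDomain K] [Algebra k K] {P : Scheme.{u}}
    (p : P ⟶ Spec (CommRingCat.of K)) [IsProper p] [Flat p] [LocallyOfFinitePresentation p]
    (hgen : Smooth (pullback.snd p (Spec.map (CommRingCat.ofHom (algebraMap K (FractionRing K)))))) :
    ∃ (A : Subalgebra k K) (P₀ : Scheme.{u}) (f₀ : P₀ ⟶ Spec (CommRingCat.of A)) (g : P ⟶ P₀)
      (a : A), A.FG ∧ Flat f₀ ∧ IsProper f₀ ∧ a ≠ 0 ∧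
      IsPullback g p f₀ (Spec.map (CommRingCat.ofHom A.val.toRingHom)) ∧
      ∀ (F : Type u) [Field F] (χ : A →+* F), χ a ≠ 0 →
        Smooth (pullback.snd f₀ (Spec.map (CommRingCat.ofHom χ))) := by
  classical
  let φ : CommRingCat.of k ⟶ CommRingCat.of K := CommRingCat.ofHom (algebraMap k K)
  obtain ⟨s, P₀, f₀, g, hfl, hpr, hlfp, hg⟩ := exists_model φ p
  let L := FractionRing K
  let ι : (AlgApprox.rings φ).obj s ⟶ CommRingCat.of L :=
    (AlgApprox.cocone φ).ι.app s ≫ CommRingCat.ofHom (algebraMap K L)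
  have hsm : Smooth (pullback.snd f₀ (Spec.map ι)) := by
    have e : Spec.map ι = Spec.map (CommRingCat.ofHom (algebraMap K L)) ≫
        Spec.map ((AlgApprox.cocone φ).ι.app s) := Spec.map_comp _ _
    have hsq := (IsPullback.of_hasPullback p (Spec.map (CommRingCat.ofHom (algebraMap K L)))).paste_horiz hg
    rw [← e] at hsq
    exact Desc.of_two @Smooth hsq (IsPullback.of_hasPullback f₀ _) hgen
  obtain ⟨t, ht⟩ := exists_smooth_stage ι f₀ hsm
  choose y z hz hyz using fun x : t => IsFractionRing.div_surjective (A := K) (x.1 : L)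
  let s' : Finset K := s ∪ Finset.univ.image y ∪ Finset.univ.image z
  let A : Subalgebra k K := Algebra.adjoin k (s' : Set K)
  have hle : ∀ x ∈ AlgApprox.adj φ s, x ∈ A := by
    intro x hx
    induction hx using Algebra.adjoin_induction with
    | mem v hv => exact Algebra.subset_adjoin (by simp [s', show v ∈ s from hv])
    | algebraMap r =>
      obtain ⟨c, hc⟩ := r.2
      have : (r : K) = algebraMap k K c := hc.symm
      change (r : K) ∈ A
      rw [this]
      exact A.algebraMap_mem c
    | add v w _ _ hv hw => exact add_mem hv hw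
    | mul v w _ _ hv hw => exact mul_mem hv hw
  let θ₀ : (AlgApprox.rings φ).obj s ⟶ CommRingCat.of A :=
    CommRingCat.ofHom ((AlgApprox.adj φ s).val.toRingHom.codRestrict A fun x => hle _ x.2)
  have hθ₀ : θ₀ ≫ CommRingCat.ofHom A.val.toRingHom = (AlgApprox.cocone φ).ι.app s := rfl
  let fA : pullback f₀ (Spec.map θ₀) ⟶ Spec (CommRingCat.of A) := pullback.snd f₀ (Spec.map θ₀)
  let gA : P ⟶ pullback f₀ (Spec.map θ₀) := pullback.lift g (p ≫ Spec.map (CommRingCat.ofHom A.val.toRingHom))
    (by rw [Category.assoc, ← Spec.map_comp, hθ₀]; exact hg.w)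
  have hgA : IsPullback gA p fA (Spec.map (CommRingCat.ofHom A.val.toRingHom)) := by
    refine IsPullback.of_right ?_ (pullback.lift_snd _ _ _) (IsPullback.of_hasPullback _ _)
    rw [pullback.lift_fst, ← Spec.map_comp, hθ₀]
    exact hg
  let zA : t → A := fun x => ⟨z x, Algebra.subset_adjoin (by simp [s'])⟩
  let yA : t → A := fun x => ⟨y x, Algebra.subset_adjoin (by simp [s'])⟩
  let a : A := ∏ x, zA x
  have ha : a ≠ 0 := by
    refine Finset.prod_ne_zero_iff.2 fun x _ h => ?_
    exact (mem_nonZeroDivisors_iff_ne_zero.1 (hz x)) (congrArg Subtype.val h)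
  refine ⟨A, _, fA, gA, a, Subalgebra.fg_adjoin_finset _, inferInstance, inferInstance, ha, hgA,
    fun F _ χ hχ => ?_⟩
  let Aa := Localization.Away a
  let toL : A →+* L := (algebraMap K L).comp A.val.toRingHom
  have hinj : Function.Injective toL :=
    (IsFractionRing.injective K L).comp Subtype.val_injective
  have hu : IsUnit (toL a) := by
    refine isUnit_iff_ne_zero.2 fun h => ha (hinj ?_)
    rw [h, map_zero]
  let lL : Aa →+* L := IsLocalization.Away.lift a hu
  have hlL : Function.Injective lL :=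
    (IsLocalization.lift_injective_iff (M := Submonoid.powers a) _).2 fun x y => by
      constructor
      · intro h
        exact congrArg toL (IsLocalization.injective Aa
          (powers_le_nonZeroDivisors_of_noZeroDivisors ha) h)
      · intro h
        exact congrArg _ (hinj h)
  let lF : Aa →+* F := IsLocalization.Away.lift a (isUnit_iff_ne_zero.2 hχ)
  have hrange : ∀ v ∈ AlgApprox.adj ι t, (v : L) ∈ lL.range := by
    intro v hv
    induction hv using Algebra.adjoin_induction with
    | mem v hv =>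
      let x : t := ⟨v, hv⟩
      have hzu : IsUnit (algebraMap A Aa (zA x)) :=
        isUnit_of_dvd_unit (map_dvd _ (Finset.dvd_prod_of_mem _ (Finset.mem_univ x)))
          (IsLocalization.Away.algebraMap_isUnit a)
      refine ⟨algebraMap A Aa (yA x) * ↑hzu.unit⁻¹, ?_⟩
      have h1 : lL (algebraMap A Aa (zA x)) = algebraMap K L (z x) :=
        IsLocalization.Away.lift_eq a hu (zA x)
      have h2 : lL (algebraMap A Aa (yA x)) = algebraMap K L (y x) :=
        IsLocalization.Away.lift_eq a hu (yA x)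
      have hne : algebraMap K L (z x) ≠ 0 :=
        (map_ne_zero_iff _ (IsFractionRing.injective K L)).2 (mem_nonZeroDivisors_iff_ne_zero.1 (hz x))
      have h3 : lL (↑hzu.unit⁻¹) * algebraMap K L (z x) = 1 := by
        rw [← h1, ← map_mul, IsUnit.val_inv_mul, map_one]
      rw [map_mul, h2]
      change _ = (x.1 : L)
      rw [← hyz x, eq_div_iff hne, mul_assoc, h3, mul_one]
    | algebraMap r =>
      obtain ⟨c, hc⟩ := r.2
      refine ⟨algebraMap A Aa (θ₀.hom c), ?_⟩
      rw [IsLocalization.Away.lift_eq]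
      exact hc
    | add v w _ _ hv hw => exact add_mem hv hw
    | mul v w _ _ hv hw => exact mul_mem hv hw
  let e : Aa ≃+* lL.range := RingEquiv.ofBijective lL.rangeRestrict
    ⟨fun x y h => hlL (congrArg Subtype.val h), lL.rangeRestrict_surjective⟩
  let Θ : AlgApprox.adj ι t →+* F := lF.comp (e.symm.toRingHom.comp
    ((AlgApprox.adj ι t).val.toRingHom.codRestrict lL.range fun v => hrange _ v.2))
  have hΘ : AlgApprox.str ι t ≫ CommRingCat.ofHom Θ = θ₀ ≫ CommRingCat.ofHom χ := by
    refine CommRingCat.hom_ext (RingHom.ext fun c => ?_)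
    change lF (e.symm ⟨ι.hom c, _⟩) = χ (θ₀.hom c)
    have : e.symm ⟨ι.hom c, hrange _ ((AlgApprox.str ι t).hom c).2⟩ = algebraMap A Aa (θ₀.hom c) := by
      rw [RingEquiv.symm_apply_eq]
      apply Subtype.ext
      change ι.hom c = lL (algebraMap A Aa (θ₀.hom c))
      rw [IsLocalization.Away.lift_eq]
      rfl
    exact (congrArg lF this).trans (IsLocalization.Away.lift_eq a _ _)
  refine Desc.of_factor @Smooth ht (a := Spec.map (CommRingCat.ofHom Θ)) ?_
    ((IsPullback.of_hasPullback fA (Spec.map (CommRingCat.ofHom χ))).paste_horiz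
      (IsPullback.of_hasPullback f₀ (Spec.map θ₀)))
  rw [← Spec.map_comp, ← Spec.map_comp, hΘ]

end H9Smoothing
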