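import Groth.Agent.H9Smoothing.Family
import Groth.Agent.H9Smoothing.Curve
import Mathlib.AlgebraicGeometry.Fiber
import Mathlib.AlgebraicGeometry.Morphisms.Smooth

/-!
Algebraization of a smoothing over `k⟦t⟧` to a smoothing over a curve.
-/

set_option autoImplicit false
set_option linter.style.haveILetI false
set_option backward.isDefEq.respectTransparency false
set_option backward.isDefEq.respectTransparency.types false

universe u

open CategoryTheory CategoryTheory.Limits AlgebraicGeometry Groth.Agent.MorLib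

namespace H9Smoothing

theorem exists_smoothing {k : Type u} [Field k] (X : Scheme.{u}) (pX : X ⟶ Spec (CommRingCat.of k))
    {P : Scheme.{u}} (p : P ⟶ Spec (CommRingCat.of (PowerSeries k))) [Flat p] [IsProper p]
    [LocallyOfFinitePresentation p] (i : X ⟶ P)
    (hX : IsPullback i pX p (Spec.map (CommRingCat.ofHom (PowerSeries.constantCoeff (R := k)))))
    (hgen : Smooth (pullback.snd p
      (Spec.map (CommRingCat.ofHom (algebraMap (PowerSeries k) (FractionRing (PowerSeries k))))))) :
    ∃ (C : Scheme.{u}) (qC : C ⟶ Spec (CommRingCat.of k)) (c : Spec (CommRingCat.of k) ⟶ C)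
      (_ : c ≫ qC = 𝟙 (Spec (CommRingCat.of k))) (_ : IsIntegral C) (_ : IsAffine C) (_ : Smooth qC)
      (_ : topologicalKrullDim C = 1)
      (Y : Scheme.{u}) (π : Y ⟶ C) (_ : Flat π) (_ : IsProper π) (j : X ⟶ Y)
      (η : C) (_ : closure ({η} : Set C) = Set.univ),
      IsPullback j pX π c ∧ Smooth (π.fiberToSpecResidueField η) := by
  obtain ⟨A, P₀, f₀, g, a, hA, hfl, hpr, ha, hg, hsm⟩ := exists_family (k := k) p hgen
  obtain ⟨R, _, _, ρ, ε, hdom, hsmooth, hdim, hρa, hε⟩ := exists_curve k A hA a ha
  let C : Scheme.{u} := Spec (CommRingCat.of R)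
  let qC : C ⟶ Spec (CommRingCat.of k) := Spec.map (CommRingCat.ofHom (algebraMap k R))
  let c : Spec (CommRingCat.of k) ⟶ C := Spec.map (CommRingCat.ofHom ε.toRingHom)
  let rA : C ⟶ Spec (CommRingCat.of A) := Spec.map (CommRingCat.ofHom ρ.toRingHom)
  have hcq : c ≫ qC = 𝟙 _ := by
    simp only [c, qC, ← Spec.map_comp, ← Spec.map_id]
    exact congrArg Spec.map (CommRingCat.hom_ext (RingHom.ext fun x => ε.commutes x))
  have hcr : c ≫ rA = Spec.map (CommRingCat.ofHom (PowerSeries.constantCoeff (R := k))) ≫
      Spec.map (CommRingCat.ofHom A.val.toRingHom) := by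
    simp only [c, rA, ← Spec.map_comp]
    exact congrArg Spec.map (CommRingCat.hom_ext (RingHom.ext fun x => hε x))
  haveI : Smooth qC :=
    (HasRingHomProperty.Spec_iff (P := @Smooth)).2 (RingHom.smooth_algebraMap.2 hsmooth)
  have hdimC : topologicalKrullDim C = 1 :=
    (PrimeSpectrum.topologicalKrullDim_eq_ringKrullDim R).trans hdim
  let Y := pullback f₀ rA
  let π : Y ⟶ C := pullback.snd f₀ rA
  let j : X ⟶ Y := pullback.lift (i ≫ g) (pX ≫ c) (by
    rw [Category.assoc, hg.w, Category.assoc, hcr, reassoc_of% hX.w])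
  have hj : IsPullback j pX π c := by
    refine IsPullback.of_right ?_ (pullback.lift_snd _ _ _) (IsPullback.of_hasPullback f₀ rA)
    rw [pullback.lift_fst, hcr]
    exact hX.paste_horiz hg
  let η : C := genericPoint C
  have hη : closure ({η} : Set C) = Set.univ := genericPoint_spec C
  let χ₀ := Spec.preimage (C.fromSpecResidueField η ≫ rA)
  have hχ : Spec.map χ₀ = C.fromSpecResidueField η ≫ rA := Spec.map_preimage _
  have hne : χ₀.hom a ≠ 0 := by
    intro h0
    haveI : Nonempty ↥(Spec (CommRingCat.of (C.residueField η))) := inferInstance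
    obtain ⟨z⟩ := (inferInstance : Nonempty ↥(Spec (C.residueField η)))
    have hz : (C.fromSpecResidueField η) z = η := Scheme.fromSpecResidueField_apply η z
    have h1 : a ∈ (rA η).asIdeal := by
      rw [← hz, ← Scheme.Hom.comp_apply, ← hχ]
      change χ₀.hom a ∈ z.asIdeal
      rw [h0]
      exact zero_mem _
    have h2 : η = (⟨⊥, Ideal.isPrime_bot⟩ : PrimeSpectrum R) := genericPoint_eq_bot_of_affine (CommRingCat.of R)
    rw [h2] at h1
    exact hρa (Ideal.mem_bot.1 h1)
  have hfib : Smooth (π.fiberToSpecResidueField η) := by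
    have h := hsm (C.residueField η) χ₀.hom hne
    have hsq := (IsPullback.of_hasPullback π (C.fromSpecResidueField η)).paste_horiz
      (IsPullback.of_hasPullback f₀ rA)
    rw [← hχ] at hsq
    exact Desc.of_two @Smooth (IsPullback.of_hasPullback f₀ (Spec.map χ₀)) hsq h
  exact ⟨C, qC, c, hcq, inferInstance, inferInstance, inferInstance, hdimC, Y, π, inferInstance,
    inferInstance, j, η, hη, hj, hfib⟩

end H9Smoothing
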